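import Mathlib

/-!
Adapted frames for square-zero self-adjoint maps of reflexive forms in characteristic two: the
linear algebra behind the classification of involutions of classical groups.
-/

set_option autoImplicit false
set_option linter.unusedSectionVars false

namespace CfsgLib.KnownSimple.InvolForms

variable {F V : Type*} [Field F] [AddCommGroup V] [Module F V] {σ : F →+* F}

/-- `N` is the nilpotent part of an involution preserving `B`. -/
structure IsInvol (B : V →ₛₗ[σ] V →ₗ[F] F) (N : V →ₗ[F] V) : Prop where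
  sq : ∀ v, N (N v) = 0
  symm : ∀ u v, B (N u) v = B u (N v)

/-- A frame: lifts of a basis of the range with prescribed pairing, spanning a totally isotropic space. -/
structure IsFrame (B : V →ₛₗ[σ] V →ₗ[F] F) (N : V →ₗ[F] V) {ι : Type*} [Fintype ι] [DecidableEq ι]
    (c : ι → V) (π : ι → ι) : Prop where
  invol : ∀ i, π (π i) = i
  card_eq : Module.finrank F (LinearMap.range N) = Fintype.card ι
  gram : ∀ i j, B (N (c i)) (c j) = if π i = j then 1 else 0
  orth : ∀ i j, B (c i) (c j) = 0

variable {B : V →ₛₗ[σ] V →ₗ[F] F} {N : V →ₗ[F] V}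

theorem IsInvol.range_range (hN : IsInvol B N) (u v : V) : B (N u) (N v) = 0 := by
  rw [← hN.symm, hN.sq, map_zero, LinearMap.zero_apply]

theorem IsInvol.apply_ker (hN : IsInvol B N) (u : V) {w : V} (hw : N w = 0) : B (N u) w = 0 := by
  rw [hN.symm, hw, map_zero]

section Pair

variable {ι : Type*} [Fintype ι] [DecidableEq ι]

/-- A frame with its images. -/
def pairVec (c : ι → V) (N : V →ₗ[F] V) : ι ⊕ ι → V := Sum.elim c fun i => N (c i)

/-- The Gram matrix of a frame with its images. -/
def pairGram (π : ι → ι) : ι ⊕ ι → ι ⊕ ι → F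
  | .inl i, .inr j => if π i = j then 1 else 0
  | .inr i, .inl j => if π i = j then 1 else 0
  | _, _ => 0

/-- The component orthogonal to a frame and its images. -/
def perpPart (B : V →ₛₗ[σ] V →ₗ[F] F) (N : V →ₗ[F] V) (c : ι → V) (π : ι → ι) (v : V) : V :=
  v - ∑ i, B (N (c (π i))) v • c i - ∑ i, B (c (π i)) v • N (c i)

variable {c : ι → V} {π : ι → ι}

theorem IsFrame.gram' (hc : IsFrame B N c π) (hN : IsInvol B N) (i j : ι) :
    B (c i) (N (c j)) = if π i = j then 1 else 0 := by
  rw [← hN.symm]; exact hc.gram i j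

theorem IsFrame.apply_pair (hc : IsFrame B N c π) (hN : IsInvol B N) (s t : ι ⊕ ι) :
    B (pairVec c N s) (pairVec c N t) = pairGram π s t := by
  rcases s with i | i <;> rcases t with j | j <;>
    simp only [pairVec, pairGram, Sum.elim_inl, Sum.elim_inr]
  · exact hc.orth i j
  · exact hc.gram' hN i j
  · exact hc.gram i j
  · exact hN.range_range _ _

theorem IsFrame.linearIndependent (hc : IsFrame B N c π) (hN : IsInvol B N) :
    LinearIndependent F (pairVec c N) := by
  rw [Fintype.linearIndependent_iff]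
  intro g hg
  have h1 : ∀ k, g (.inl k) = 0 := fun k => by
    have h := congrArg (B (N (c (π k)))) hg
    simpa [pairVec, map_sum, hc.gram, hN.range_range, hc.invol] using h
  rintro (k | k)
  · exact h1 k
  · have h := congrArg (B (c (π k))) hg
    simpa [pairVec, map_sum, hc.orth, hc.gram' hN, hc.invol] using h

theorem IsFrame.perp_left (hc : IsFrame B N c π) (hN : IsInvol B N) (v : V) (i : ι) :
    B (c i) (perpPart B N c π v) = 0 := by
  simp [perpPart, map_sum, hc.orth, hc.gram' hN, hc.invol]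

theorem IsFrame.perp_right (hc : IsFrame B N c π) (hN : IsInvol B N) (v : V) (i : ι) :
    B (N (c i)) (perpPart B N c π v) = 0 := by
  simp [perpPart, map_sum, hc.gram, hN.range_range, hc.invol]

theorem IsFrame.mem_span_range (hc : IsFrame B N c π) [FiniteDimensional F V] (hN : IsInvol B N) :
    LinearMap.range N = Submodule.span F (Set.range fun i => N (c i)) := by
  refine (Submodule.eq_of_le_of_finrank_eq (Submodule.span_le.2 ?_) ?_).symm
  · rintro _ ⟨i, rfl⟩; exact LinearMap.mem_range_self N _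
  · have hli : LinearIndependent F (fun i => N (c i)) :=
      (hc.linearIndependent hN).comp Sum.inr Sum.inr_injective
    rw [finrank_span_eq_card hli, hc.card_eq]

/-- Vectors orthogonal to a frame are killed. -/
theorem IsFrame.ker_of_orth (hc : IsFrame B N c π) [FiniteDimensional F V] (hN : IsInvol B N) {w : V}
    (h : ∀ i, B (N (c i)) w = 0) : N w = 0 := by
  obtain ⟨g, hg⟩ : ∃ g : ι → F, ∑ i, g i • N (c i) = N w :=
    (Submodule.mem_span_range_iff_exists_fun F).1 (hc.mem_span_range hN ▸ LinearMap.mem_range_self N w)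
  have hg0 : ∀ k, g k = 0 := fun k => by
    have h1 := congrArg (B (c (π k))) hg
    rw [← hN.symm, h] at h1
    simpa [map_sum, hc.gram' hN, hc.invol] using h1
  simpa [hg0] using hg.symm

/-- An isometry matching two frames intertwines the nilpotent maps. -/
theorem conj_of_map [FiniteDimensional F V] {N' : V →ₗ[F] V} {c' : ι → V}
    (hN : IsInvol B N) (hN' : IsInvol B N') (hc : IsFrame B N c π) (hc' : IsFrame B N' c' π)
    (g : V ≃ₗ[F] V) (hg : ∀ u v, B (g u) (g v) = B u v)
    (hmap : ∀ s, g (pairVec c N s) = pairVec c' N' s) (v : V) : g (N v) = N' (g v) := by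
  have hgc : ∀ i, g (c i) = c' i := fun i => hmap (.inl i)
  have hgd : ∀ i, g (N (c i)) = N' (c' i) := fun i => hmap (.inr i)
  set w := perpPart B N c π v with hw
  have hNw : N w = 0 := hc.ker_of_orth hN (hc.perp_right hN v)
  have hN'w : N' (g w) = 0 := hc'.ker_of_orth hN' fun i => by
    rw [← hgd, hg]; exact hc.perp_right hN v i
  have hv : v = w + (∑ i, B (N (c (π i))) v • c i + ∑ i, B (c (π i)) v • N (c i)) := by
    rw [hw, perpPart]; abel
  generalize (fun i => B (N (c (π i))) v) = a, (fun i => B (c (π i)) v) = b at hv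
  rw [show N v = N w + (∑ i, B (N (c (π i))) v • N (c i)) by
    conv_lhs => rw [hv]
    simp [map_sum, hN.sq]]
  conv_rhs => rw [hv]
  simp [map_sum, hNw, hN'w, hgc, hgd, hN'.sq]

/-- Changing a frame by vectors killed by `N`. -/
theorem IsFrame.of_add (hN : IsInvol B N) {c₀ : ι → V} (hinv : ∀ i, π (π i) = i)
    (hcard : Module.finrank F (LinearMap.range N) = Fintype.card ι)
    (hgram : ∀ i j, B (N (c₀ i)) (c₀ j) = if π i = j then 1 else 0) (hk : ∀ i, N (c i - c₀ i) = 0)
    (horth : ∀ i j, B (c i) (c j) = 0) : IsFrame B N c π := by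
  refine ⟨hinv, hcard, fun i j => ?_, horth⟩
  have hNc : N (c i) = N (c₀ i) := by rw [← sub_eq_zero, ← map_sub, hk]
  rw [hNc, show c j = c₀ j + (c j - c₀ j) by abel, map_add, hgram, hN.apply_ker _ (hk j), add_zero]

/-- Changing a frame by the images of the frame. -/
theorem IsFrame.of_images [CharP F 2] (hN : IsInvol B N) (hσ2 : ∀ a, σ (σ a) = a) {c₀ : ι → V}
    (hinv : ∀ i, π (π i) = i) (hcard : Module.finrank F (LinearMap.range N) = Fintype.card ι)
    (hgram : ∀ i j, B (N (c₀ i)) (c₀ j) = if π i = j then 1 else 0) (x : ι → ι → F)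
    (hx : ∀ i k, B (c₀ i) (c₀ k) + σ (x i (π k)) + x k (π i) = 0)
    (hc : ∀ i, c i = c₀ i + ∑ j, x i j • N (c₀ j)) : IsFrame B N c π := by
  refine IsFrame.of_add hN hinv hcard hgram (fun i => ?_) fun i k => ?_
  · simp [hc, map_sum, hN.sq]
  · have hgram' : ∀ i j, B (c₀ i) (N (c₀ j)) = if π i = j then 1 else 0 := fun i j => by
      rw [← hN.symm]; exact hgram i j
    have hflip : ∀ (j : ι), (π j = k) = (j = π k) := fun j => propext
      ⟨fun h => by rw [← h, hinv], fun h => by rw [h, hinv]⟩
    rw [← hx i k]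
    simp [hc, map_sum, LinearMap.sum_apply, hgram, hgram', hN.range_range, hflip]
    ring

theorem exists_frame [CharP F 2] (hN : IsInvol B N) (hσ2 : ∀ a, σ (σ a) = a)
    (hS : ∀ u v, σ (B u v) = B v u) {c₀ : ι → V}
    (hinv : ∀ i, π (π i) = i) (hcard : Module.finrank F (LinearMap.range N) = Fintype.card ι)
    (hgram : ∀ i j, B (N (c₀ i)) (c₀ j) = if π i = j then 1 else 0)
    (hdiag : ∀ i, ∃ d, d + σ d = B (c₀ i) (c₀ i)) : ∃ c, IsFrame B N c π := by
  classical
  choose d hd using hdiag
  let e := Fintype.equivFin ι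
  let y : ι → ι → F := fun i k =>
    if e i < e k then σ (B (c₀ i) (c₀ k)) else if i = k then d i else 0
  refine ⟨fun i => c₀ i + ∑ j, y i (π j) • N (c₀ j),
    IsFrame.of_images hN hσ2 hinv hcard hgram (fun i j => y i (π j)) (fun i k => ?_) fun i => rfl⟩
  simp only [hinv]
  rcases lt_trichotomy (e i) (e k) with h | h | h
  · have h1 : i ≠ k := fun e' => h.ne (congrArg e e')
    simp only [y, if_pos h, if_neg h.not_gt, if_neg h1.symm]
    rw [hσ2, add_zero, CharTwo.add_self_eq_zero]
  · obtain rfl : i = k := e.injective h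
    simp only [y, lt_irrefl, if_false, if_true]
    rw [← hd i, add_assoc, add_comm (σ (d i)) (d i), CharTwo.add_self_eq_zero]
  · have h1 : k ≠ i := fun e' => h.ne (congrArg e e')
    simp only [y, if_pos h, if_neg h.not_gt, if_neg h1.symm]
    rw [map_zero, add_zero, hS, CharTwo.add_self_eq_zero]

end Pair

/-- A complement of the kernel on which the induced form is nondegenerate. -/
theorem exists_compl [FiniteDimensional F V] (hN : IsInvol B N) (hB : B.SeparatingLeft) :
    ∃ C : Submodule F V, Module.finrank F C = Module.finrank F (LinearMap.range N) ∧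
      IsCompl (LinearMap.ker N) C ∧
      ∀ u ∈ C, (∀ v ∈ C, B (N u) v = 0) → u = 0 := by
  obtain ⟨C, hC⟩ := Submodule.exists_isCompl (LinearMap.ker N)
  refine ⟨C, ?_, hC, fun u hu h => ?_⟩
  · have h1 := Submodule.finrank_add_eq_of_isCompl hC
    have h2 := LinearMap.finrank_range_add_finrank_ker N
    omega
  · have hker : u ∈ LinearMap.ker N := LinearMap.mem_ker.2 (hB _ fun v => by
      obtain ⟨k, hk, z, hz, rfl⟩ := Submodule.mem_sup.1
        (show v ∈ LinearMap.ker N ⊔ C by rw [hC.sup_eq_top]; trivial)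
      rw [map_add, hN.apply_ker u hk, h z hz, add_zero])
    have hm : u ∈ LinearMap.ker N ⊓ C := Submodule.mem_inf.2 ⟨hker, hu⟩
    rw [hC.inf_eq_bot] at hm
    simpa using hm

theorem diag_compl [FiniteDimensional F V] (hN : IsInvol B N) {C : Submodule F V}
    (hC : IsCompl (LinearMap.ker N) C) (h : ∀ z ∈ C, B (N z) z = 0) (v : V) : B (N v) v = 0 := by
  obtain ⟨k, hk, z, hz, rfl⟩ := Submodule.mem_sup.1
    (show v ∈ LinearMap.ker N ⊔ C by rw [hC.sup_eq_top]; trivial)
  rw [map_add N, LinearMap.mem_ker.1 hk, zero_add, map_add, hN.apply_ker z hk, h z hz, add_zero]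

/-- The induced form on a subspace. -/
def inducedForm (B : V →ₛₗ[σ] V →ₗ[F] F) (N : V →ₗ[F] V) (C : Submodule F V) :
    C →ₛₗ[σ] C →ₗ[F] F :=
  LinearMap.mk₂'ₛₗ σ (RingHom.id F) (fun x y => B (N (x : V)) (y : V))
    (fun x x' y => by simp) (fun a x y => by simp)
    (fun x y y' => by simp) (fun a x y => by simp)

theorem inducedForm_apply (C : Submodule F V) (x y : C) :
    inducedForm B N C x y = B (N (x : V)) (y : V) := rfl

theorem inducedForm_symm (hN : IsInvol B N) (hS : ∀ u v, σ (B u v) = B v u) (C : Submodule F V)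
    (x y : C) : σ (inducedForm B N C x y) = inducedForm B N C y x := by
  rw [inducedForm_apply, inducedForm_apply, hS, hN.symm]

theorem inducedForm_separatingLeft {C : Submodule F V}
    (h : ∀ u ∈ C, (∀ v ∈ C, B (N u) v = 0) → u = 0) : (inducedForm B N C).SeparatingLeft :=
  fun x hx => Subtype.ext (h x x.2 fun v hv => hx ⟨v, hv⟩)

/-- A nondegenerate symmetric non-alternating form over a perfect field of characteristic two has an
orthonormal basis. -/
theorem exists_orthonormal_symm [CharP F 2] (hsq : ∀ a : F, IsSquare a) :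
    ∀ (n : ℕ) {W : Type*} [AddCommGroup W] [Module F W] [FiniteDimensional F W]
      (b : LinearMap.BilinForm F W), (∀ u v, b u v = b v u) → b.SeparatingLeft →
      (∃ v, b v v ≠ 0) → Module.finrank F W = n →
      ∃ e : Fin n → W, ∀ i j, b (e i) (e j) = if i = j then 1 else 0 := by
  intro n
  induction n with
  | zero => intros; exact ⟨fun i => i.elim0, fun i => i.elim0⟩
  | succ n ih =>
    intro W _ _ _ b hs hb ⟨v, hv⟩ hd
    obtain ⟨r, hr⟩ := hsq (b v v)⁻¹
    obtain ⟨u₀, hu₀⟩ : ∃ u, b u u = 1 := ⟨r • v, by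
      simp only [map_smul, LinearMap.smul_apply, smul_eq_mul, ← mul_assoc, ← hr, inv_mul_cancel₀ hv]⟩
    have hkerdim : ∀ u, b u u = 1 → Module.finrank F (LinearMap.ker (b u)) = n := fun u hu => by
      have h1 := LinearMap.finrank_range_add_finrank_ker (b u)
      have h2 : LinearMap.range (b u) = ⊤ :=
        LinearMap.range_eq_top.2 fun a => ⟨a • u, by simp [hu]⟩
      rw [h2, finrank_top, Module.finrank_self, hd] at h1
      omega
    obtain ⟨u, hu, hnon⟩ : ∃ u, b u u = 1 ∧ (n = 0 ∨ ∃ w, b u w = 0 ∧ b w w ≠ 0) := by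
      by_cases h0 : n = 0
      · exact ⟨u₀, hu₀, Or.inl h0⟩
      by_cases h1 : ∃ w, b u₀ w = 0 ∧ b w w ≠ 0
      · exact ⟨u₀, hu₀, Or.inr h1⟩
      push Not at h1
      obtain ⟨e, he, he0⟩ := Submodule.exists_mem_ne_zero_of_ne_bot
        (fun hbot => h0 (by rw [← hkerdim u₀ hu₀, hbot, finrank_bot]) : LinearMap.ker (b u₀) ≠ ⊥)
      rw [LinearMap.mem_ker] at he
      obtain ⟨f, hf, hef⟩ : ∃ f, b u₀ f = 0 ∧ b e f = 1 := by
        obtain ⟨f, hf⟩ : ∃ f, b e f ≠ 0 := by
          by_contra hc; push Not at hc; exact he0 (hb e hc)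
        refine ⟨(b e f)⁻¹ • (f - b u₀ f • u₀), by simp [hu₀], ?_⟩
        have : b e u₀ = 0 := by rw [hs]; exact he
        simp [this, inv_mul_cancel₀ hf]
      have hee := h1 e he
      have hff := h1 f hf
      have hfu : b f u₀ = 0 := by rw [hs]; exact hf
      have heu : b e u₀ = 0 := by rw [hs]; exact he
      refine ⟨u₀ + e, by simp [hu₀, he, hee, heu], Or.inr ⟨u₀ + f, ?_, ?_⟩⟩
      · simp [hu₀, hf, heu, hef, CharTwo.add_self_eq_zero]
      · simp [hu₀, hf, hfu, hff]
    rcases hnon with rfl | ⟨w, hw, hww⟩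
    · exact ⟨fun _ => u, fun i j => by rw [if_pos (Subsingleton.elim (α := Fin 1) i j)]; exact hu⟩
    let K := LinearMap.ker (b u)
    let b' : LinearMap.BilinForm F K := b.compl₁₂ K.subtype K.subtype
    have hb' : b'.SeparatingLeft := by
      intro x hx
      refine Subtype.ext (hb _ fun y => ?_)
      have hy : y - b u y • u ∈ K := by simp [K, hu]
      have hxu : b (x : W) u = 0 := by rw [hs, LinearMap.mem_ker.1 x.2]
      have := hx ⟨_, hy⟩
      simpa [b', hxu] using this
    obtain ⟨e, he⟩ := ih b' (fun x y => hs _ _) hb' ⟨⟨w, LinearMap.mem_ker.2 hw⟩, hww⟩ (hkerdim u hu)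
    refine ⟨Fin.cons u fun i => (e i : W), ?_⟩
    intro i j
    refine Fin.cases ?_ (fun i => ?_) i <;> refine Fin.cases ?_ (fun j => ?_) j
    · simpa using hu
    · simpa [(Fin.succ_ne_zero _).symm] using LinearMap.mem_ker.1 (e j).2
    · simpa [Fin.succ_ne_zero, hs (e i : W) u] using LinearMap.mem_ker.1 (e i).2
    · simpa [b'] using he i j

end CfsgLib.KnownSimple.InvolForms
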