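import Cfsg.Agent.Lib.KnownSimple.InvolForms.Quad
import Cfsg.Agent.Lib.OrthOmega.Classes
import Cfsg.Agent.Lib.OrthOmega.Invariant
import Cfsg.Agent.Lib.Orth.NegOne

/-!
Involutions of even-dimensional orthogonal groups in characteristic two: conjugacy, the commutator
subgroup and splitting of classes.
-/

set_option autoImplicit false
set_option linter.unusedSectionVars false

namespace CfsgLib.KnownSimple.InvolForms

open Matrix CfsgLib.Orth

variable {F : Type*} [Field F] [Fintype F] [CharP F 2] {ι : Type} [Fintype ι] [DecidableEq ι]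
  {Q : QuadraticForm F (ι → F)}

/-- The matrix of an isometry. -/
abbrev mat (t : O Q) : Matrix ι ι F := ((t : GL ι F) : Matrix ι ι F)

theorem mat_mul_self {t : O Q} (ht : orderOf t = 2) : mat t * mat t = 1 :=
  congrArg (fun x : O Q => mat x) (show t * t = 1 by rw [← pow_two, ← ht, pow_orderOf_eq_one])

theorem isInvol_orth {t : O Q} (ht : orderOf t = 2) : IsInvol Q.polarBilin (nilPart (mat t)) :=
  isInvol_nilPart (fun u v => by
    simp only [QuadraticMap.polarBilin_apply_apply]; exact polar_app t u v) (mat_mul_self ht)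

theorem quad_nilPart {t : O Q} (ht : orderOf t = 2) (v : ι → F) :
    Q (nilPart (mat t) v) = Q.polarBilin (nilPart (mat t) v) v := by
  have h : Q (mat t *ᵥ v) = Q v := t.2 v v
  rw [mulVec_eq_add, quad_add', (isInvol_orth ht).symm] at *
  linear_combination h - Q.polarBilin v (nilPart (mat t) v) * (CharTwo.two_eq_zero : (2 : F) = 0)

theorem app_nilPart {t s g : O Q} (h : g * t * g⁻¹ = s) (v : ι → F) :
    app g (nilPart (mat t) v) = nilPart (mat s) (app g v) := by
  have h1 : g * t = s * g := mul_inv_eq_iff_eq_mul.1 h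
  simp only [nilPart_apply, map_sub]
  show app g (app t v) - app g v = app s (app g v) - app g v
  rw [← app_mul, h1, app_mul]

theorem isConj_iff_symp (hQ : Q.polarBilin.Nondegenerate) {f : (ι → F) → F} (hf : ⇑Q = f)
    (t s : ↥(Cfsg.isometryGroup F f)) (ht : orderOf t = 2) (hs : orderOf s = 2) :
    IsConj t s ↔ ∃ g ∈ Cfsg.preserving (Units.coeHom (Matrix ι ι F))
      (fun u v => f (u + v) - f u - f v), g * (t : GL ι F) * g⁻¹ = (s : GL ι F) := by
  subst hf
  constructor
  · intro h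
    obtain ⟨c, hc⟩ := isConj_iff.1 h
    refine ⟨(c : GL ι F), fun u v => ?_, congrArg Subtype.val hc⟩
    exact polar_app c u v
  · rintro ⟨g, hg, hgt⟩
    set G : Matrix ι ι F := (g : Matrix ι ι F) with hG
    have hGB : ∀ u v, Q.polarBilin (G *ᵥ u) (G *ᵥ v) = Q.polarBilin u v := fun u v => by
      simp only [QuadraticMap.polarBilin_apply_apply]; exact hg u v
    have hGN : ∀ v, G *ᵥ nilPart (mat t) v = nilPart (mat s) (G *ᵥ v) := fun v => by
      have h1 : G * mat t = mat s * G := congrArg Units.val (mul_inv_eq_iff_eq_mul.1 hgt)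
      rw [nilPart_apply, nilPart_apply, Matrix.mulVec_sub, Matrix.mulVec_mulVec, Matrix.mulVec_mulVec, h1]
    have hsurj : Function.Surjective fun v => G *ᵥ v := fun w =>
      ⟨(↑g⁻¹ : Matrix ι ι F) *ᵥ w, by
        show G *ᵥ _ = w
        rw [hG, Matrix.mulVec_mulVec, ← Units.val_mul, mul_inv_cancel, Units.val_one, Matrix.one_mulVec]⟩
    have hl : (mat t - 1).rank = (mat s - 1).rank := by
      have h1 : mat s - 1 = G * (mat t - 1) * (↑g⁻¹ : Matrix ι ι F) := by
        rw [show mat s = G * mat t * (↑g⁻¹ : Matrix ι ι F) from (congrArg Units.val hgt).symm,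
          mul_sub, sub_mul, mul_one, hG, ← Units.val_mul g g⁻¹, mul_inv_cancel, Units.val_one]
      rw [h1, rank_mul_eq_left_of_isUnit_det _ _ ((Matrix.isUnit_iff_isUnit_det _).1 g⁻¹.isUnit),
        rank_mul_eq_right_of_isUnit_det _ _ ((Matrix.isUnit_iff_isUnit_det _).1 g.isUnit)]
    have halt : (∀ v, Q.polarBilin (nilPart (mat t) v) v = 0) ↔
        ∀ v, Q.polarBilin (nilPart (mat s) v) v = 0 := by
      refine ⟨fun h w => ?_, fun h v => ?_⟩
      · obtain ⟨v, rfl⟩ := hsurj w
        rw [← hGN, hGB]; exact h v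
      · rw [← hGB, hGN]; exact h _
    obtain ⟨e, he, heN⟩ := exists_conj_of_inv_quad hQ (isInvol_orth ht) (isInvol_orth hs)
      (quad_nilPart ht) (quad_nilPart hs) hl halt
    let c : O Q := mkO e.toLinearMap e.symm.toLinearMap (by ext; simp) (by ext; simp) he
    refine isConj_iff.2 ⟨c, mul_inv_eq_iff_eq_mul.2 (ext_app fun v => ?_)⟩
    have h1 := heN v
    simp only [nilPart_apply, map_sub] at h1
    simp only [app_mul, c, app_mkO, LinearEquiv.coe_coe]
    exact sub_left_inj.1 h1

theorem id_sub_app (t : O Q) : LinearMap.id - app t = nilPart (mat t) := by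
  refine LinearMap.ext fun v => ?_
  rw [LinearMap.sub_apply, LinearMap.id_apply, nilPart_apply, app_apply]
  exact funext fun i => by simp only [Pi.sub_apply, CharTwo.sub_eq_add]; ring

theorem mem_omega_iff_rank (hQ : Q.polarBilin.Nondegenerate) (hn : Fintype.card ι ≠ 4)
    {f : (ι → F) → F} (hf : ⇑Q = f) (t : ↥(Cfsg.isometryGroup F f)) :
    t ∈ Cfsg.Omega F f ↔ Even (((t : GL ι F) : Matrix ι ι F) - 1).rank := by
  subst hf
  have hgen : reflClosure Q = ⊤ := reflClosure_eq_top hQ (Or.inr hn)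
  rw [OrthOmega.mem_omega_two hQ hgen]
  show dickson (Q := Q) t = 1 ↔ _
  have h1 := LinearMap.finrank_range_add_finrank_ker (nilPart (mat (Q := Q) t))
  rw [Module.finrank_fintype_fun_eq_card] at h1
  have h2 : Fintype.card ι - Module.finrank F (fixS (Q := Q) t) = (mat (Q := Q) t - 1).rank := by
    rw [fixS, id_sub_app]
    show _ = Module.finrank F (LinearMap.range (nilPart (mat (Q := Q) t)))
    omega
  rw [dickson, h2]
  refine ⟨fun h => ?_, fun h => h.neg_one_pow⟩
  by_contra hodd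
  rw [(Nat.not_even_iff_odd.1 hodd).neg_one_pow] at h
  exact absurd h (by decide)

/-- A fixed nonsingular vector lets one adjust a conjugating element into `Ω`. -/
theorem exists_omega_conj_of_fixed (hQ : Q.polarBilin.Nondegenerate) (hn : Fintype.card ι ≠ 4)
    {t s : O Q} (h : IsConj t s) {u : ι → F} (hu : Q u ≠ 0) (htu : app t u = u) :
    ∃ g ∈ Cfsg.Omega F ⇑Q, g * t * g⁻¹ = s := by
  have hgen : reflClosure Q = ⊤ := reflClosure_eq_top hQ (Or.inr hn)
  obtain ⟨g, hg⟩ := isConj_iff.1 h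
  rcases Int.units_eq_one_or (dicksonHom hQ hgen g) with h1 | h1
  · exact ⟨g, (OrthOmega.mem_omega_two hQ hgen g).2 h1, hg⟩
  · refine ⟨g * refl Q u, (OrthOmega.mem_omega_two hQ hgen _).2 ?_, ?_⟩
    · rw [map_mul, h1, dicksonHom_refl hQ hgen hu]; decide
    · have hc : t * refl Q u * t⁻¹ = refl Q u := by rw [refl_conj, htu]
      have hc' : refl Q u * t = t * refl Q u := (mul_inv_eq_iff_eq_mul.1 hc).symm
      calc g * refl Q u * t * (g * refl Q u)⁻¹
          = g * (refl Q u * t * (refl Q u)⁻¹) * g⁻¹ := by group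
        _ = g * t * g⁻¹ := by rw [hc']; group
        _ = s := hg

/-- An involution fixes a nonsingular vector unless its range is a totally singular half. -/
theorem exists_fixed_value (hQ : Q.polarBilin.Nondegenerate) {m : ℕ} (hι : Fintype.card ι = 2 * m)
    {t : O Q} (ht : orderOf t = 2)
    (h : ¬ ((mat t - 1).rank = m ∧ ∀ v, Q (v + mat t *ᵥ v) = 0)) :
    ∃ u, Q u ≠ 0 ∧ app t u = u := by
  by_contra hno
  push Not at hno
  have hts : ∀ u ∈ LinearMap.ker (nilPart (mat t)), Q u = 0 := fun u hu => by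
    by_contra hne
    refine hno u hne ?_
    rw [LinearMap.mem_ker] at hu
    rw [app_apply, mulVec_eq_add, hu, add_zero]
  have hker := two_finrank_le hQ hts
  have hrk : LinearMap.range (nilPart (mat t)) ≤ LinearMap.ker (nilPart (mat t)) := by
    rintro _ ⟨v, rfl⟩; exact (isInvol_orth ht).sq v
  have h1 := LinearMap.finrank_range_add_finrank_ker (nilPart (mat t))
  rw [Module.finrank_fintype_fun_eq_card] at h1
  have h2 := Submodule.finrank_mono hrk
  refine h ⟨?_, fun v => ?_⟩
  · show Module.finrank F (LinearMap.range (nilPart (mat t))) = m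
    omega
  · rw [add_mulVec_eq]; exact hts _ (hrk (LinearMap.mem_range_self _ v))

theorem omega_conj_plus (hQ : Q.polarBilin.Nondegenerate) {m : ℕ} (hι : Fintype.card ι = 2 * m)
    (hm : 3 ≤ m) {f : (ι → F) → F} (hf : ⇑Q = f) (t s : ↥(Cfsg.isometryGroup F f))
    (ht : orderOf t = 2) (hconj : IsConj t s) :
    (¬ ((((t : GL ι F) : Matrix ι ι F) - 1).rank = m ∧
        ∀ v, f (v + ((t : GL ι F) : Matrix ι ι F) *ᵥ v) = 0) →
      ∃ g ∈ Cfsg.Omega F f, g * t * g⁻¹ = s) ∧
    (((((t : GL ι F) : Matrix ι ι F) - 1).rank = m ∧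
        ∀ v, f (v + ((t : GL ι F) : Matrix ι ι F) *ᵥ v) = 0) →
      ((∃ g ∈ Cfsg.Omega F f, g * t * g⁻¹ = s) ↔
        Even (Module.finrank F ↥(LinearMap.range (Matrix.toLin' (((t : GL ι F) : Matrix ι ι F) - 1)) ⊓
          LinearMap.range (Matrix.toLin' (((s : GL ι F) : Matrix ι ι F) - 1)))))) := by
  subst hf
  have hn : Fintype.card ι ≠ 4 := by omega
  have hgen : reflClosure Q = ⊤ := reflClosure_eq_top hQ (Or.inr hn)
  refine ⟨fun h => ?_, fun h => ?_⟩
  · obtain ⟨u, hu, htu⟩ := exists_fixed_value hQ hι ht h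
    exact exists_omega_conj_of_fixed hQ hn hconj hu htu
  obtain ⟨hrank, hsing⟩ := h
  set U := LinearMap.range (nilPart (mat (Q := Q) t)) with hU
  set U' := LinearMap.range (nilPart (mat (Q := Q) s)) with hU'
  show (_ ↔ Even (Module.finrank F ↥(U ⊓ U')))
  have hUd : Module.finrank F U = m := hrank
  have hUs : ∀ u ∈ U, Q u = 0 := by
    rintro _ ⟨v, rfl⟩; rw [← add_mulVec_eq]; exact hsing v
  have heven : Even m := by
    obtain ⟨k, hk, -⟩ := exists_frame_alt (polarBilin_isAlt Q) hQ.1 (isInvol_orth ht)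
      (fun v => by rw [← quad_nilPart ht]; exact hUs _ (LinearMap.mem_range_self _ v))
    exact ⟨k, hUd.symm.trans (hk.trans (two_mul k))⟩
  have hpar : ∀ g : O Q, g * t * g⁻¹ = s →
      (dicksonHom hQ hgen g = 1 ↔ Even (Module.finrank F ↥(U ⊓ U'))) := fun g hg => by
    have hmap : U.map (app g) = U' := by
      refine le_antisymm ?_ ?_
      · rintro _ ⟨_, ⟨v, rfl⟩, rfl⟩; exact ⟨app g v, (app_nilPart hg v).symm⟩
      · rintro _ ⟨w, rfl⟩
        refine ⟨nilPart (mat (Q := Q) t) (app g⁻¹ w), LinearMap.mem_range_self _ _, ?_⟩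
        rw [app_nilPart hg, app_app_inv]
    rw [← OrthOmega.classSign_app hQ hgen hι hUd hUs g, hmap, OrthOmega.classSign_eq_one_iff,
      Nat.even_sub ((Submodule.finrank_mono inf_le_left).trans hUd.le)]
    exact ⟨fun h => h.1 heven, fun h => ⟨fun _ => h, fun _ => heven⟩⟩
  constructor
  · rintro ⟨g, hg, hgt⟩
    exact (hpar g hgt).1 ((OrthOmega.mem_omega_two hQ hgen g).1 hg)
  · intro he
    obtain ⟨g, hg⟩ := isConj_iff.1 hconj
    exact ⟨g, (OrthOmega.mem_omega_two hQ hgen g).2 ((hpar g hg).2 he), hg⟩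

theorem omega_conj_minus (hQ : Q.polarBilin.Nondegenerate) {m : ℕ} (hι : Fintype.card ι = 2 * m)
    (hm : 3 ≤ m) (hts : ∀ W : Submodule F (ι → F), (∀ w ∈ W, Q w = 0) → Module.finrank F W < m)
    {f : (ι → F) → F} (hf : ⇑Q = f) (t s : ↥(Cfsg.isometryGroup F f))
    (ht : orderOf t = 2) (hconj : IsConj t s) : ∃ g ∈ Cfsg.Omega F f, g * t * g⁻¹ = s := by
  subst hf
  refine (omega_conj_plus hQ hι hm rfl t s ht hconj).1 fun ⟨hr, hsing⟩ => ?_
  have h := hts (LinearMap.range (nilPart (mat (Q := Q) t))) (by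
    rintro _ ⟨v, rfl⟩; rw [← add_mulVec_eq]; exact hsing v)
  exact h.ne hr

/-! ### The minus type form -/

section Minus

variable {k : ℕ} {a b : F}

theorem aniso_ne_zero (hab : ∀ z₁ z₂ : F, z₁ ^ 2 + a * z₁ * z₂ + b * z₂ ^ 2 = 0 → z₁ = 0 ∧ z₂ = 0) :
    a ≠ 0 := by
  rintro rfl
  obtain ⟨r, hr⟩ := FiniteField.isSquare_of_char_two (ringChar.eq_iff.2 inferInstance) b
  refine one_ne_zero (hab r 1 ?_).2
  linear_combination hr + (r * r) * (CharTwo.two_eq_zero : (2 : F) = 0)

theorem minusQ_nondegenerate_two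
    (hab : ∀ z₁ z₂ : F, z₁ ^ 2 + a * z₁ * z₂ + b * z₂ ^ 2 = 0 → z₁ = 0 ∧ z₂ = 0) :
    (minusQ k F a b).polarBilin.Nondegenerate := by
  have ha := aniso_ne_zero hab
  have h2 : (2 : F) = 0 := CharTwo.two_eq_zero
  have key : ∀ x, (∀ y, QuadraticMap.polar (minusQ k F a b) x y = 0) → x = 0 := fun x hx => funext fun j => by
    rcases j with (i | i) | i
    · have := hx (Pi.single (Sum.inl (Sum.inr i)) 1)
      simpa [polar_minusQ, Pi.single_apply, Finset.sum_add_distrib] using this
    · have := hx (Pi.single (Sum.inl (Sum.inl i)) 1)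
      simpa [polar_minusQ, Pi.single_apply, Finset.sum_add_distrib] using this
    · fin_cases i
      · have := hx (Pi.single (Sum.inr 1) 1)
        simpa [polar_minusQ, Pi.single_apply, h2, ha] using this
      · have := hx (Pi.single (Sum.inr 0) 1)
        simpa [polar_minusQ, Pi.single_apply, h2, ha] using this
  exact ⟨key, fun y hy => key y fun x => by rw [QuadraticMap.polar_comm]; exact hy x⟩

theorem minusQ_finrank_singular
    (hab : ∀ z₁ z₂ : F, z₁ ^ 2 + a * z₁ * z₂ + b * z₂ ^ 2 = 0 → z₁ = 0 ∧ z₂ = 0)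
    (W : Submodule F ((Fin k ⊕ Fin k) ⊕ Fin 2 → F)) (hW : ∀ w ∈ W, minusQ k F a b w = 0) :
    Module.finrank F W ≤ k := by
  let e : Fin k → ((Fin k ⊕ Fin k) ⊕ Fin 2 → F) := fun i => Pi.single (Sum.inl (Sum.inl i)) 1
  have hsum : ∀ g : Fin k → F, ∑ i, g i • e i = Sum.elim (Sum.elim g fun _ => 0) fun _ => 0 := fun g => by
    funext j
    rcases j with (j | j) | j <;> simp [e, Finset.sum_apply, Pi.single_apply]
  set W₁ := Submodule.span F (Set.range e)
  have h1 : ∀ w ∈ W₁, minusQ k F a b w = 0 := fun w hw => by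
    obtain ⟨g, rfl⟩ := (Submodule.mem_span_range_iff_exists_fun F).1 hw
    rw [hsum, minusQ_coe]
    simp [Cfsg.quadFormMinus]
  refine (CfsgLib.Forms.quad_witt_index _ (minusQ_nondegenerate_two hab) W₁ W h1 hW fun W' hle hW' => ?_).trans
    (le_of_le_of_eq (finrank_range_le_card _) (Fintype.card_fin k))
  refine le_antisymm (fun v hv => ?_) hle
  have hy : ∀ i, v (.inl (.inr i)) = 0 := fun i => by
    have hei : e i ∈ W' := hle (Submodule.subset_span ⟨i, rfl⟩)
    have h2 := hW' _ (add_mem hei hv)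
    rw [quad_add', hW' _ hei, hW' _ hv, zero_add, zero_add, QuadraticMap.polarBilin_apply_apply,
      polar_minusQ] at h2
    simpa [e, Pi.single_apply, Finset.sum_add_distrib] using h2
  have hz := hW' _ hv
  rw [minusQ_coe] at hz
  simp only [Cfsg.quadFormMinus, hy, mul_zero, Finset.sum_const_zero, zero_add] at hz
  obtain ⟨z0, z1⟩ := hab _ _ hz
  refine (Submodule.mem_span_range_iff_exists_fun F).2 ⟨fun i => v (.inl (.inl i)), ?_⟩
  rw [hsum]
  funext j
  rcases j with (j | j) | j
  · rfl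
  · exact (hy j).symm
  · fin_cases j
    · exact z0.symm
    · exact z1.symm

end Minus

end CfsgLib.KnownSimple.InvolForms
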