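import Cfsg.Agent.Lib.KnownSimple.InvolForms.Symm
import Cfsg.Agent.Lib.Forms.Witt

/-!
Normal forms of involutive isometries of nondegenerate quadratic forms in characteristic two.
-/

set_option autoImplicit false
set_option linter.unusedSectionVars false

namespace CfsgLib.KnownSimple.InvolForms

variable {F : Type*} [Field F] [Fintype F] [CharP F 2] {V : Type*} [AddCommGroup V] [Module F V]
  [FiniteDimensional F V] {Q : QuadraticForm F V}

theorem polarBilin_isAlt (Q : QuadraticForm F V) : Q.polarBilin.IsAlt := fun v => by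
  rw [QuadraticMap.polarBilin_apply_apply, QuadraticMap.polar_self, two_nsmul,
    CharTwo.add_self_eq_zero]

theorem quad_add' (Q : QuadraticForm F V) (x y : V) : Q (x + y) = Q x + Q y + Q.polarBilin x y := by
  rw [QuadraticMap.polarBilin_apply_apply]; exact QuadraticMap.map_add ⇑Q x y

theorem quad_smul' (Q : QuadraticForm F V) (a : F) (x : V) : Q (a • x) = a * a * Q x := by
  rw [QuadraticMap.map_smul, smul_eq_mul]

/-- The sum of two elements outside the image of `x ↦ x² + x` is in the image. -/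
theorem exists_artin_schreier {a b : F} (ha : ¬ ∃ x : F, x * x + x = a)
    (hb : ¬ ∃ x : F, x * x + x = b) : ∃ x : F, x * x + x = a + b := by
  let f : F →+ F := AddMonoidHom.mk' (fun x => x * x + x) fun x y => by
    linear_combination (x * y) * (CharTwo.two_eq_zero : (2 : F) = 0)
  have hmem : ∀ z, z ∈ f.range ↔ ∃ x : F, x * x + x = z := fun z => Iff.rfl
  have hker : (f.ker : Set F) = {0, 1} := by
    ext x
    simp only [SetLike.mem_coe, AddMonoidHom.mem_ker, Set.mem_insert_iff, Set.mem_singleton_iff]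
    show x * x + x = 0 ↔ _
    rw [← mul_add_one, mul_eq_zero, CharTwo.add_eq_zero]
  have hk : Nat.card f.ker = 2 := by
    rw [show Nat.card f.ker = Set.ncard (f.ker : Set F) from Nat.card_coe_set_eq _, hker,
      Set.ncard_pair zero_ne_one]
  have h1 := f.ker.card_mul_index
  rw [AddSubgroup.index_ker, hk] at h1
  have h2 := f.range.card_mul_index
  have hpos : 0 < Nat.card f.range := Nat.card_pos
  have hidx : f.range.index = 2 := by
    rw [← h1] at h2
    exact Nat.eq_of_mul_eq_mul_left hpos (h2.trans (mul_comm _ _))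
  exact (hmem _).1 ((AddSubgroup.add_mem_iff_of_index_two hidx).2
    ⟨fun h => absurd ((hmem _).1 h) ha, fun h => absurd ((hmem _).1 h) hb⟩)

variable {N : V →ₗ[F] V}

theorem quad_images (hN : IsInvol Q.polarBilin N) (hQN : ∀ v, Q (N v) = Q.polarBilin (N v) v)
    {ι : Type} [Fintype ι] [DecidableEq ι] {π : ι → ι} {c : ι → V}
    (hc : IsFrame Q.polarBilin N c π) (i : ι) : Q (N (c i)) = if π i = i then 1 else 0 := by
  rw [hQN]; exact hc.gram i i

/-- Normalised frames for alternating induced form. -/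
theorem exists_quad_frame_alt (hQ : Q.polarBilin.Nondegenerate) (hN : IsInvol Q.polarBilin N)
    (hQN : ∀ v, Q (N v) = Q.polarBilin (N v) v) (halt : ∀ v, Q.polarBilin (N v) v = 0) :
    ∃ k, Module.finrank F (LinearMap.range N) = 2 * k ∧
      ∃ c : Fin k ⊕ Fin k → V, IsFrame Q.polarBilin N c Sum.swap ∧ ∀ i, Q (c i) = 0 := by
  have hA := polarBilin_isAlt Q
  obtain ⟨k, hk, c, hc⟩ := exists_frame_alt hA hQ.1 hN halt
  refine ⟨k, hk, fun i => c i + Q (c i) • N (c (Sum.swap i)),
    IsFrame.of_add hN hc.invol hc.card_eq hc.gram (fun i => by simp [hN.sq]) fun i j => ?_, fun i => ?_⟩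
  · by_cases hij : i = j
    · subst hij; exact hA.self_eq_zero _
    · have h1 : Sum.swap (Sum.swap i) ≠ j := by rw [Sum.swap_swap]; exact hij
      have h2 : Sum.swap i ≠ Sum.swap j := fun h => hij (by
        simpa [Sum.swap_swap] using congrArg Sum.swap h)
      simp [map_add, map_smul, LinearMap.add_apply, LinearMap.smul_apply, hc.orth, hc.gram, hc.gram' hN,
        hN.range_range, h2, hij]
  · have hne : Sum.swap (Sum.swap i) ≠ Sum.swap i := by
      rcases i with i | i <;> simp
    rw [quad_add', quad_smul', quad_images hN hQN hc, if_neg hne, map_smul, smul_eq_mul,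
      hc.gram' hN, if_pos rfl, mul_zero, add_zero, mul_one, CharTwo.add_self_eq_zero]

/-- Changing the first vector of a diagonal frame. -/
theorem frame_update (hN : IsInvol Q.polarBilin N) {n : ℕ} {c : Fin (n + 1) → V}
    (hc : IsFrame Q.polarBilin N c id) {u : V} (hu : N u = 0)
    (horth : ∀ k, k ≠ 0 → Q.polarBilin (c k) u = 0) :
    IsFrame Q.polarBilin N (fun i => if i = 0 then c i + u else c i) id := by
  have hA := polarBilin_isAlt Q
  refine IsFrame.of_add hN hc.invol hc.card_eq hc.gram (fun i => ?_) fun i j => ?_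
  · split_ifs <;> simp [hu]
  · split_ifs with hi hj hj
    · subst hi hj; exact hA.self_eq_zero _
    · subst hi
      rw [map_add, LinearMap.add_apply, hc.orth, symm_of_alt hA u, horth j hj, add_zero]
    · subst hj
      rw [map_add, hc.orth, horth i hi, add_zero]
    · exact hc.orth i j

theorem frame_shift (hN : IsInvol Q.polarBilin N) (hQN : ∀ v, Q (N v) = Q.polarBilin (N v) v) {n : ℕ}
    {c : Fin (n + 1) → V} (hc : IsFrame Q.polarBilin N c id) (h0 : ∀ i, i ≠ 0 → Q (c i) = 0) (x : F) :
    ∃ c' : Fin (n + 1) → V, IsFrame Q.polarBilin N c' id ∧ (∀ i, i ≠ 0 → Q (c' i) = 0) ∧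
      Q (c' 0) = Q (c 0) + (x * x + x) := by
  refine ⟨_, frame_update hN hc (u := x • N (c 0)) (by simp [hN.sq]) (fun k hk => ?_), fun i hi => ?_, ?_⟩
  · rw [map_smul, hc.gram' hN, if_neg (by simpa using hk), smul_zero]
  · simp [if_neg hi, h0 i hi]
  · rw [if_pos rfl, quad_add', quad_smul', quad_images hN hQN hc, map_smul, hc.gram' hN, smul_eq_mul]
    simp
    ring

/-- Diagonal frames with at most one nonsingular vector. -/
theorem exists_quad_frame_diag (hQ : Q.polarBilin.Nondegenerate) (hN : IsInvol Q.polarBilin N)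
    (hQN : ∀ v, Q (N v) = Q.polarBilin (N v) v) (hne : ¬ ∀ v, Q.polarBilin (N v) v = 0) :
    ∃ n, Module.finrank F (LinearMap.range N) = n + 1 ∧
      ∃ c : Fin (n + 1) → V, IsFrame Q.polarBilin N c id ∧ ∀ i, i ≠ 0 → Q (c i) = 0 := by
  classical
  have hsq : ∀ a : F, IsSquare a := FiniteField.isSquare_of_char_two (ringChar.eq_iff.2 inferInstance)
  obtain ⟨c, hc⟩ := exists_frame_diag hsq (polarBilin_isAlt Q) hQ.1 hN hne
  obtain ⟨n, hn⟩ : ∃ n, Module.finrank F (LinearMap.range N) = n + 1 := by
    refine Nat.exists_eq_add_one.2 (Nat.pos_of_ne_zero fun h0 => hne fun v => ?_)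
    rw [Submodule.finrank_eq_zero] at h0
    rw [LinearMap.range_eq_bot.1 h0]; simp
  refine ⟨n, hn, ?_⟩
  generalize Module.finrank F (LinearMap.range N) = l at c hc hn
  subst hn
  choose s hs using fun i => hsq (Q (c i))
  let x : Fin (n + 1) → Fin (n + 1) → F := fun i j =>
    (if j = 0 ∧ i ≠ 0 then s i else 0) + (if i = 0 ∧ j ≠ 0 then s j else 0)
  refine ⟨fun i => c i + ∑ j, x i j • N (c j),
    IsFrame.of_images hN (fun a => rfl) hc.invol hc.card_eq hc.gram x (fun i k => ?_) (fun i => rfl),
    fun i hi => ?_⟩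
  · rw [hc.orth, RingHom.id_apply, zero_add]
    simp only [x, id]
    rw [add_comm (if i = 0 ∧ k ≠ 0 then s k else 0), CharTwo.add_self_eq_zero]
  · have h1 : ∑ j, x i j • N (c j) = s i • N (c 0) := by
      rw [Finset.sum_eq_single (0 : Fin (n + 1))]
      · simp [x, hi]
      · intro j _ hj; simp [x, hi, hj]
      · simp
    show Q (c i + ∑ j, x i j • N (c j)) = 0
    rw [h1, quad_add', quad_smul', quad_images hN hQN hc, map_smul, hc.gram' hN, ← hs i]
    simp [hi, CharTwo.add_self_eq_zero]

/-- Nonzero values on the orthogonal of a small frame. -/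
theorem exists_perp_value (hQ : Q.polarBilin.Nondegenerate) (hN : IsInvol Q.polarBilin N) {ι : Type}
    [Fintype ι] [DecidableEq ι] {π : ι → ι} {c : ι → V} (hc : IsFrame Q.polarBilin N c π)
    (hlt : 2 * Fintype.card ι < Module.finrank F V) (a : F) :
    ∃ u, N u = 0 ∧ (∀ i, Q.polarBilin (c i) u = 0) ∧ Q u = a := by
  have hA := polarBilin_isAlt Q
  obtain ⟨v₀, hv₀⟩ : ∃ v, perpPart Q.polarBilin N c π v ≠ 0 := by
    by_contra h
    push Not at h
    have hle : (⊤ : Submodule F V) ≤ Submodule.span F (Set.range (pairVec c N)) := fun v _ => by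
      have hv := h v
      rw [perpPart, sub_sub, sub_eq_zero] at hv
      rw [hv]
      exact add_mem (Submodule.sum_mem _ fun i _ => Submodule.smul_mem _ _
          (Submodule.subset_span ⟨.inl i, rfl⟩))
        (Submodule.sum_mem _ fun i _ => Submodule.smul_mem _ _ (Submodule.subset_span ⟨.inr i, rfl⟩))
    have h1 := (Submodule.finrank_mono hle).trans (finrank_range_le_card (pairVec c N))
    rw [finrank_top, Fintype.card_sum] at h1
    omega
  obtain ⟨v, hv⟩ : ∃ v, Q (perpPart Q.polarBilin N c π v) ≠ 0 := by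
    by_contra h
    push Not at h
    refine hv₀ (hQ.1 _ fun w => ?_)
    set p := perpPart Q.polarBilin N c π
    have hpp : Q.polarBilin (p v₀) (p w) = 0 := by
      have h1 : p v₀ + p w = p (v₀ + w) := by
        simp [p, perpPart, add_smul, Finset.sum_add_distrib]; abel
      have h2 := h (v₀ + w)
      rwa [← h1, quad_add', h, h, zero_add, zero_add] at h2
    have h3 : w = p w + (∑ i, Q.polarBilin (N (c (π i))) w • c i +
        ∑ i, Q.polarBilin (c (π i)) w • N (c i)) := by
      simp only [p, perpPart]; abel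
    have hl : ∀ i, Q.polarBilin (p v₀) (c i) = 0 := fun i => by
      rw [symm_of_alt hA]; exact hc.perp_left hN v₀ i
    have hr : ∀ i, Q.polarBilin (p v₀) (N (c i)) = 0 := fun i => by
      rw [symm_of_alt hA]; exact hc.perp_right hN v₀ i
    rw [h3]
    simp [map_sum, hpp, hl, hr, map_add, map_smul, smul_eq_mul]
  set w := perpPart Q.polarBilin N c π v
  obtain ⟨r, hr⟩ := FiniteField.isSquare_of_char_two (ringChar.eq_iff.2 inferInstance) (a / Q w)
  refine ⟨r • w, ?_, fun i => ?_, ?_⟩
  · rw [map_smul, hc.ker_of_orth hN (hc.perp_right hN v), smul_zero]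
  · rw [map_smul, hc.perp_left hN v, smul_zero]
  · rw [quad_smul', ← hr, div_mul_cancel₀ _ hv]

/-- A maximal frame with an anisotropic plane leaves no totally singular subspace of half dimension. -/
theorem no_singular_half (hQ : Q.polarBilin.Nondegenerate) (hN : IsInvol Q.polarBilin N)
    (hQN : ∀ v, Q (N v) = Q.polarBilin (N v) v) {n : ℕ} {c : Fin (n + 1) → V}
    (hc : IsFrame Q.polarBilin N c id) (h0 : ∀ i, i ≠ 0 → Q (c i) = 0)
    (hδ : ¬ ∃ x : F, x * x + x = Q (c 0)) (hdim : Module.finrank F V = 2 * (n + 1))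
    (W : Submodule F V) (hW : ∀ w ∈ W, Q w = 0) : Module.finrank F W ≤ n := by
  classical
  have hA := polarBilin_isAlt Q
  set W₁ : Submodule F V := Submodule.span F (Set.range fun i : Fin n => c i.succ) with hW₁
  have horth : ∀ x ∈ W₁, ∀ i, Q.polarBilin (c i) x = 0 := by
    intro x hx i
    induction hx using Submodule.span_induction with
    | mem x hx => obtain ⟨j, rfl⟩ := hx; exact hc.orth _ _
    | zero => exact map_zero _
    | add x y _ _ ihx ihy => rw [map_add, ihx, ihy, add_zero]
    | smul a x _ ih => rw [map_smul, ih, smul_zero]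
  have hxy : ∀ x ∈ W₁, ∀ y ∈ W₁, Q.polarBilin x y = 0 := fun x hx y hy => by
    induction hx using Submodule.span_induction with
    | mem x hx => obtain ⟨j, rfl⟩ := hx; exact horth y hy _
    | zero => rw [map_zero, LinearMap.zero_apply]
    | add x x' _ _ i1 i2 => rw [map_add, LinearMap.add_apply, i1, i2, add_zero]
    | smul a x _ i1 => rw [map_smul, LinearMap.smul_apply, i1, smul_zero]
  have h1 : ∀ w ∈ W₁, Q w = 0 := by
    intro w hw
    induction hw using Submodule.span_induction with
    | mem x hx => obtain ⟨j, rfl⟩ := hx; exact h0 _ (Fin.succ_ne_zero j)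
    | zero => exact QuadraticMap.map_zero Q
    | add x y hx hy ihx ihy =>
      rw [quad_add', ihx, ihy, hxy x hx y hy, add_zero, add_zero]
    | smul a x _ ih => rw [quad_smul', ih, mul_zero]
  refine (CfsgLib.Forms.quad_witt_index Q hQ W₁ W h1 hW fun W' hle hW' => ?_).trans
    (le_of_le_of_eq (finrank_range_le_card _) (Fintype.card_fin n))
  refine le_antisymm (fun v hv => ?_) hle
  have hvc : ∀ j : Fin n, Q.polarBilin (c j.succ) v = 0 := fun j => by
    have hj : c j.succ ∈ W' := hle (Submodule.subset_span ⟨j, rfl⟩)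
    have h2 := hW' _ (add_mem hj hv)
    rwa [quad_add', hW' _ hj, hW' _ hv, zero_add, zero_add] at h2
  have hperp : perpPart Q.polarBilin N c id v = 0 := by
    refine hQ.1 _ fun w => ?_
    obtain ⟨g, rfl⟩ := (Submodule.mem_span_range_iff_exists_fun F).1
      (show w ∈ Submodule.span F (Set.range (pairVec c N)) by
        rw [(hc.linearIndependent hN).span_eq_top_of_card_eq_finrank'
          (by rw [hdim, Fintype.card_sum, Fintype.card_fin]; omega)]
        trivial)
    rw [map_sum]
    refine Finset.sum_eq_zero fun s _ => ?_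
    rw [map_smul, symm_of_alt hA]
    rcases s with i | i
    · exact smul_eq_zero_of_right _ (hc.perp_left hN v i)
    · exact smul_eq_zero_of_right _ (hc.perp_right hN v i)
  rw [perpPart, sub_sub, sub_eq_zero, Fin.sum_univ_succ (fun i => Q.polarBilin (c (id i)) v • N (c i))] at hperp
  simp only [id, hvc, zero_smul, Finset.sum_const_zero, add_zero] at hperp
  rw [Fin.sum_univ_succ] at hperp
  set a := Q.polarBilin (N (c 0)) v
  set b := Q.polarBilin (c 0) v
  have hS : ∑ i : Fin n, Q.polarBilin (N (c i.succ)) v • c i.succ ∈ W₁ :=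
    Submodule.sum_mem _ fun i _ => Submodule.smul_mem _ _ (Submodule.subset_span ⟨i, rfl⟩)
  have hp : a • c 0 + b • N (c 0) ∈ W' := by
    have h3 := sub_mem hv (hle hS)
    nth_rewrite 1 [hperp] at h3
    convert h3 using 1
    abel
  have h4 := hW' _ hp
  rw [quad_add', quad_smul', quad_smul', quad_images hN hQN hc, map_smul, map_smul, LinearMap.smul_apply,
    hc.gram' hN] at h4
  simp only [id, if_true, mul_one, smul_eq_mul] at h4
  have ha : a = 0 := by
    by_contra ha
    refine hδ ⟨b / a, ?_⟩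
    field_simp
    linear_combination h4 - a * a * Q (c 0) * (CharTwo.two_eq_zero : (2 : F) = 0)
  have hb : b = 0 := by simpa [ha] using h4
  rw [hperp, ha, hb, zero_smul, zero_smul, zero_add, add_zero]
  exact hS

/-- Two frames with equal values are exchanged by an isometry. -/
theorem exists_conj_quad (hQ : Q.polarBilin.Nondegenerate) {N' : V →ₗ[F] V}
    (hN : IsInvol Q.polarBilin N) (hN' : IsInvol Q.polarBilin N')
    (hQN : ∀ v, Q (N v) = Q.polarBilin (N v) v) (hQN' : ∀ v, Q (N' v) = Q.polarBilin (N' v) v)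
    {ι : Type} [Fintype ι] [DecidableEq ι] {π : ι → ι} {c c' : ι → V}
    (hc : IsFrame Q.polarBilin N c π) (hc' : IsFrame Q.polarBilin N' c' π)
    (hval : ∀ i, Q (c i) = Q (c' i)) :
    ∃ g : V ≃ₗ[F] V, (∀ v, Q (g v) = Q v) ∧ ∀ v, g (N v) = N' (g v) := by
  let e := (Fintype.equivFin (ι ⊕ ι)).symm
  obtain ⟨g, hg, hgx⟩ := CfsgLib.Forms.quad_witt_family Q hQ (fun i => pairVec c N (e i))
    (fun i => pairVec c' N' (e i)) ((hc.linearIndependent hN).comp _ e.injective)
    ((hc'.linearIndependent hN').comp _ e.injective)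
    (fun i => by
      rcases e i with j | j
      · exact hval j
      · exact (quad_images hN hQN hc j).trans (quad_images hN' hQN' hc' j).symm)
    (fun i j => by
      rw [← QuadraticMap.polarBilin_apply_apply, ← QuadraticMap.polarBilin_apply_apply,
        hc.apply_pair hN, hc'.apply_pair hN'])
  have hgB : ∀ u v, Q.polarBilin (g u) (g v) = Q.polarBilin u v := fun u v => by
    simp only [QuadraticMap.polarBilin_apply_apply, QuadraticMap.polar, ← map_add, hg]
  refine ⟨g, hg, fun v => conj_of_map hN hN' hc hc' g hgB (fun s => ?_) v⟩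
  simpa using hgx (e.symm s)

/-- A diagonal frame is normalised to all vectors singular, or is maximal with an anisotropic plane. -/
theorem exists_normal_diag (hQ : Q.polarBilin.Nondegenerate) (hN : IsInvol Q.polarBilin N)
    (hQN : ∀ v, Q (N v) = Q.polarBilin (N v) v) {n : ℕ} {c : Fin (n + 1) → V}
    (hc : IsFrame Q.polarBilin N c id) (h0 : ∀ i, i ≠ 0 → Q (c i) = 0) :
    (∃ c', IsFrame Q.polarBilin N c' id ∧ ∀ i : Fin (n + 1), Q (c' i) = 0) ∨
      (Module.finrank F V = 2 * (n + 1) ∧ ¬ ∃ x : F, x * x + x = Q (c 0)) := by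
  by_cases hx : ∃ x : F, x * x + x = Q (c 0)
  · obtain ⟨x, hx⟩ := hx
    obtain ⟨c', hc', h0', h00⟩ := frame_shift hN hQN hc h0 x
    refine Or.inl ⟨c', hc', fun i => ?_⟩
    by_cases hi : i = 0
    · rw [hi, h00, hx, CharTwo.add_self_eq_zero]
    · exact h0' i hi
  have hle : 2 * (n + 1) ≤ Module.finrank F V := by
    have h1 := (hc.linearIndependent hN).fintype_card_le_finrank
    rw [Fintype.card_sum, Fintype.card_fin] at h1
    omega
  rcases hle.eq_or_lt with heq | hlt
  · exact Or.inr ⟨heq.symm, hx⟩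
  obtain ⟨u, hu, huc, hQu⟩ := exists_perp_value hQ hN hc (by rwa [Fintype.card_fin]) (Q (c 0))
  refine Or.inl ⟨_, frame_update hN hc hu (fun k _ => huc k), fun i => ?_⟩
  by_cases hi : i = 0
  · subst hi
    rw [if_pos rfl, quad_add', hQu, huc, add_zero, CharTwo.add_self_eq_zero]
  · rw [if_neg hi]; exact h0 i hi

/-- Involutive isometries with the same rank and type are conjugate. -/
theorem exists_conj_of_inv_quad (hQ : Q.polarBilin.Nondegenerate) {N' : V →ₗ[F] V}
    (hN : IsInvol Q.polarBilin N) (hN' : IsInvol Q.polarBilin N')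
    (hQN : ∀ v, Q (N v) = Q.polarBilin (N v) v) (hQN' : ∀ v, Q (N' v) = Q.polarBilin (N' v) v)
    (hl : Module.finrank F (LinearMap.range N) = Module.finrank F (LinearMap.range N'))
    (halt : (∀ v, Q.polarBilin (N v) v = 0) ↔ ∀ v, Q.polarBilin (N' v) v = 0) :
    ∃ g : V ≃ₗ[F] V, (∀ v, Q (g v) = Q v) ∧ ∀ v, g (N v) = N' (g v) := by
  by_cases h : ∀ v, Q.polarBilin (N v) v = 0
  · obtain ⟨k, hk, c, hc, h0⟩ := exists_quad_frame_alt hQ hN hQN h
    obtain ⟨k', hk', c', hc', h0'⟩ := exists_quad_frame_alt hQ hN' hQN' (halt.1 h)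
    obtain rfl : k = k' := by omega
    exact exists_conj_quad hQ hN hN' hQN hQN' hc hc' fun i => (h0 i).trans (h0' i).symm
  obtain ⟨n, hn, c, hc, h0⟩ := exists_quad_frame_diag hQ hN hQN h
  obtain ⟨n', hn', c', hc', h0'⟩ := exists_quad_frame_diag hQ hN' hQN' fun h' => h (halt.2 h')
  obtain rfl : n = n' := by omega
  have hsing : ∀ {M : V →ₗ[F] V} {d : Fin (n + 1) → V}, IsInvol Q.polarBilin M →
      IsFrame Q.polarBilin M d id → (∀ i, Q (d i) = 0) →
      ∃ W : Submodule F V, (∀ w ∈ W, Q w = 0) ∧ Module.finrank F W = n + 1 := by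
    intro M d hM hd hd0
    refine ⟨Submodule.span F (Set.range d), fun w hw => ?_, ?_⟩
    · obtain ⟨g, rfl⟩ := (Submodule.mem_span_range_iff_exists_fun F).1 hw
      classical
      suffices ∀ s : Finset (Fin (n + 1)), Q (∑ i ∈ s, g i • d i) = 0 from this _
      intro s
      induction s using Finset.induction with
      | empty => simp
      | insert a s has ih =>
        rw [Finset.sum_insert has, quad_add', ih, quad_smul', hd0]
        simp [map_sum, hd.orth]
    · have hli : LinearIndependent F d := (hd.linearIndependent hM).comp Sum.inl Sum.inl_injective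
      rw [finrank_span_eq_card hli, Fintype.card_fin]
  rcases exists_normal_diag hQ hN hQN hc h0 with ⟨d, hd, hd0⟩ | ⟨hdim, hδ⟩
  · rcases exists_normal_diag hQ hN' hQN' hc' h0' with ⟨d', hd', hd0'⟩ | ⟨hdim', hδ'⟩
    · exact exists_conj_quad hQ hN hN' hQN hQN' hd hd' fun i => (hd0 i).trans (hd0' i).symm
    · obtain ⟨W, hW, hWd⟩ := hsing hN hd hd0
      have := no_singular_half hQ hN' hQN' hc' h0' hδ' hdim' W hW
      omega
  · rcases exists_normal_diag hQ hN' hQN' hc' h0' with ⟨d', hd', hd0'⟩ | ⟨hdim', hδ'⟩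
    · obtain ⟨W, hW, hWd⟩ := hsing hN' hd' hd0'
      have := no_singular_half hQ hN hQN hc h0 hδ hdim W hW
      omega
    · obtain ⟨x, hx⟩ := exists_artin_schreier hδ hδ'
      obtain ⟨d, hd, hd0, hd00⟩ := frame_shift hN hQN hc h0 x
      refine exists_conj_quad hQ hN hN' hQN hQN' hd hc' fun i => ?_
      by_cases hi : i = 0
      · rw [hi, hd00, hx, ← add_assoc, CharTwo.add_self_eq_zero, zero_add]
      · exact (hd0 i hi).trans (h0' i hi).symm

end CfsgLib.KnownSimple.InvolForms
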