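import Cfsg.Agent.Lib.KnownSimple.InvolForms.Frame
import Cfsg.Agent.Lib.AutPSp.SympBasis
import Cfsg.Agent.Lib.Orth.Lagrangian

/-!
Frames for involutions preserving an alternating form in characteristic two.
-/

set_option autoImplicit false
set_option linter.unusedSectionVars false

namespace CfsgLib.KnownSimple.InvolForms

open Matrix
open LinearMap (BilinForm)

variable {F : Type*} [Field F] [CharP F 2]

section Abstract

variable {V : Type*} [AddCommGroup V] [Module F V] {B : BilinForm F V} {N : V →ₗ[F] V}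

theorem symm_of_alt (hA : B.IsAlt) (u v : V) : B u v = B v u := by
  rw [← LinearMap.IsAlt.neg hA v u, CharTwo.neg_eq]

theorem hS_of_alt (hA : B.IsAlt) (u v : V) : RingHom.id F (B u v) = B v u := symm_of_alt hA u v

variable [FiniteDimensional F V]

/-- The case of an alternating induced form. -/
theorem exists_frame_alt (hA : B.IsAlt) (hB : B.SeparatingLeft) (hN : IsInvol B N)
    (halt : ∀ v, B (N v) v = 0) :
    ∃ k, Module.finrank F (LinearMap.range N) = 2 * k ∧
      ∃ c : Fin k ⊕ Fin k → V, IsFrame B N c Sum.swap := by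
  obtain ⟨C, hCdim, hC, hCnd⟩ := exists_compl hN hB
  let β : BilinForm F C := inducedForm B N C
  have hβA : β.IsAlt := fun x => halt x
  have hβB : β.SeparatingLeft := inducedForm_separatingLeft hCnd
  obtain ⟨k, hk⟩ := CfsgLib.Orth.alt_even_corank β hβA
  rw [LinearMap.separatingLeft_iff_ker_eq_bot.1 hβB, finrank_bot, Nat.sub_zero] at hk
  obtain ⟨e, f, hee, hff, hef⟩ := CfsgLib.AutPSp.exists_symp_family β hβA hβB k (by omega)
  refine ⟨k, by omega, ?_⟩
  refine exists_frame hN (fun a => rfl) (hS_of_alt hA) (c₀ := Sum.elim (fun i => (e i : V)) fun i => (f i : V))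
    (fun i => Sum.swap_swap i) ?_ ?_ fun i => ⟨0, by simp [hA.self_eq_zero]⟩
  · rw [Fintype.card_sum, Fintype.card_fin, ← hCdim]; omega
  · rintro (i | i) (j | j) <;> simp only [Sum.elim_inl, Sum.elim_inr, Sum.swap_inl, Sum.swap_inr]
    · simpa [β, inducedForm_apply] using hee i j
    · simpa [β, inducedForm_apply, Sum.inr.injEq, CharTwo.neg_eq] using hef i j
    · have h := hef j i
      rw [symm_of_alt hβA] at h
      simpa [β, inducedForm_apply, Sum.inl.injEq, eq_comm (a := j), CharTwo.neg_eq] using h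
    · simpa [β, inducedForm_apply] using hff i j

/-- The case of a non-alternating induced form. -/
theorem exists_frame_diag (hsq : ∀ a : F, IsSquare a) (hA : B.IsAlt) (hB : B.SeparatingLeft)
    (hN : IsInvol B N) (hne : ¬ ∀ v, B (N v) v = 0) :
    ∃ c : Fin (Module.finrank F (LinearMap.range N)) → V, IsFrame B N c id := by
  obtain ⟨C, hCdim, hC, hCnd⟩ := exists_compl hN hB
  let β : BilinForm F C := inducedForm B N C
  obtain ⟨e, he⟩ := exists_orthonormal_symm hsq _ β
    (fun x y => inducedForm_symm hN (hS_of_alt hA) C x y)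
    (inducedForm_separatingLeft hCnd)
    (by
      by_contra h
      push Not at h
      exact hne (diag_compl hN hC fun z hz => h ⟨z, hz⟩))
    hCdim
  exact exists_frame hN (fun a => rfl) (hS_of_alt hA) (c₀ := fun i => (e i : V)) (fun i => rfl)
    (Fintype.card_fin _).symm (fun i j => he i j) fun i => ⟨0, by simp [hA.self_eq_zero]⟩

end Abstract

section Matrices

variable {ι : Type*} [Fintype ι] [DecidableEq ι]

/-- The nilpotent part of a matrix involution. -/
def nilPart (M : Matrix ι ι F) : (ι → F) →ₗ[F] (ι → F) := Matrix.mulVecLin (M - 1)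

theorem nilPart_apply (M : Matrix ι ι F) (v : ι → F) : nilPart M v = M *ᵥ v - v := by
  simp [nilPart, Matrix.sub_mulVec]

theorem mulVec_eq_add (M : Matrix ι ι F) (v : ι → F) : M *ᵥ v = v + nilPart M v := by
  rw [nilPart_apply]; abel

theorem add_mulVec_eq (M : Matrix ι ι F) (v : ι → F) : v + M *ᵥ v = nilPart M v := by
  rw [nilPart_apply, sub_eq_add_neg, add_comm (M *ᵥ v)]
  exact funext fun i => by simp [CharTwo.neg_eq, CharTwo.sub_eq_add, add_comm]

theorem isInvol_nilPart {σ : F →+* F} {B : (ι → F) →ₛₗ[σ] (ι → F) →ₗ[F] F} {M : Matrix ι ι F}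
    (hB : ∀ u v, B (M *ᵥ u) (M *ᵥ v) = B u v) (hM : M * M = 1) : IsInvol B (nilPart M) := by
  refine ⟨fun v => ?_, fun u v => ?_⟩
  · have h : (M - 1) * (M - 1) = 0 := by
      ext i j
      simp [sub_mul, mul_sub, hM, CharTwo.sub_eq_add]
      ring_nf
      simp [CharTwo.two_eq_zero]
    simp only [nilPart, Matrix.mulVecLin_apply, Matrix.mulVec_mulVec, h, Matrix.zero_mulVec]
  · rw [nilPart_apply, nilPart_apply, map_sub, map_sub, LinearMap.sub_apply]
    congr 1
    conv_lhs => rw [show v = M *ᵥ (M *ᵥ v) by rw [Matrix.mulVec_mulVec, hM, Matrix.one_mulVec]]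
    exact hB _ _

theorem conj_of_intertwine {M M' G : Matrix ι ι F}
    (h : ∀ v, G *ᵥ nilPart M v = nilPart M' (G *ᵥ v)) : G * M = M' * G := by
  refine Matrix.ext_of_mulVec_single fun j => ?_
  have h1 := h (Pi.single j 1)
  rw [← Matrix.mulVec_mulVec, ← Matrix.mulVec_mulVec, mulVec_eq_add M, mulVec_eq_add M',
    Matrix.mulVec_add, h1]

end Matrices

end CfsgLib.KnownSimple.InvolForms
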