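import Cfsg.Agent.Lib.KnownSimple.InvolForms.Symm
import Cfsg.Agent.Lib.Sp.Group

/-!
Conjugacy of involutions of symplectic groups in characteristic two.
-/

set_option autoImplicit false
set_option linter.unusedSectionVars false

namespace CfsgLib.KnownSimple.InvolForms

open Matrix Cfsg
open LinearMap (BilinForm)

variable {F : Type*} [Field F] [CharP F 2]

/-- Two frames of the same shape are exchanged by an isometry intertwining the involutions. -/
theorem exists_conj_alt {V : Type*} [AddCommGroup V] [Module F V] [FiniteDimensional F V]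
    {B : BilinForm F V} (hA : B.IsAlt) (hB : B.SeparatingLeft) {N N' : V →ₗ[F] V}
    (hN : IsInvol B N) (hN' : IsInvol B N') {ι : Type} [Fintype ι] [DecidableEq ι] {π : ι → ι}
    {c c' : ι → V} (hc : IsFrame B N c π) (hc' : IsFrame B N' c' π) :
    ∃ g : V ≃ₗ[F] V, (∀ u v, B (g u) (g v) = B u v) ∧ ∀ v, g (N v) = N' (g v) := by
  let e := (Fintype.equivFin (ι ⊕ ι)).symm
  obtain ⟨g, hg, hgx⟩ := CfsgLib.Sp.witt_family hA hB (fun i => pairVec c N (e i))
    (fun i => pairVec c' N' (e i)) ((hc.linearIndependent hN).comp _ e.injective)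
    ((hc'.linearIndependent hN').comp _ e.injective)
    (fun i j => by rw [hc.apply_pair hN, hc'.apply_pair hN'])
  have hg' := CfsgLib.Sp.transvGroup_le_isom hg
  refine ⟨g, hg', fun v => conj_of_map hN hN' hc hc' g hg' (fun s => ?_) v⟩
  simpa using hgx (e.symm s)

section Abstract

variable {V : Type*} [AddCommGroup V] [Module F V] [FiniteDimensional F V]

/-- Classification by the rank and the type of the induced form. -/
theorem exists_conj_of_inv (hsq : ∀ a : F, IsSquare a) {B : BilinForm F V} (hA : B.IsAlt)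
    (hB : B.SeparatingLeft) {N N' : V →ₗ[F] V} (hN : IsInvol B N) (hN' : IsInvol B N')
    (hl : Module.finrank F (LinearMap.range N) = Module.finrank F (LinearMap.range N'))
    (halt : (∀ v, B (N v) v = 0) ↔ ∀ v, B (N' v) v = 0) :
    ∃ g : V ≃ₗ[F] V, (∀ u v, B (g u) (g v) = B u v) ∧ ∀ v, g (N v) = N' (g v) := by
  by_cases h : ∀ v, B (N v) v = 0
  · obtain ⟨k, hk, c, hc⟩ := exists_frame_alt hA hB hN h
    obtain ⟨k', hk', c', hc'⟩ := exists_frame_alt hA hB hN' (halt.1 h)
    obtain rfl : k = k' := by omega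
    exact exists_conj_alt hA hB hN hN' hc hc'
  · obtain ⟨c, hc⟩ := exists_frame_diag hsq hA hB hN h
    obtain ⟨c', hc'⟩ := exists_frame_diag hsq hA hB hN' (fun h' => h (halt.2 h'))
    generalize Module.finrank F (LinearMap.range N) = l at c hc hl
    subst hl
    exact exists_conj_alt hA hB hN hN' hc hc'

end Abstract

variable [Fintype F] {m : ℕ}

theorem isSquare_two (a : F) : IsSquare a :=
  FiniteField.isSquare_of_char_two (ringChar.eq_iff.2 inferInstance) a

theorem isInvol_symp {a : symplecticGroup (Fin m) F} (ha : orderOf a = 2) :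
    IsInvol (CfsgLib.Sp.sympBilin m F) (nilPart a.1) := by
  refine isInvol_nilPart (fun u v => ?_) ?_
  · simp only [CfsgLib.Sp.sympBilin_apply, CfsgLib.Sp.sympForm_mulVec]
  · have h := congrArg Subtype.val (show a * a = 1 by rw [← pow_two, ← ha, pow_orderOf_eq_one])
    exact h

theorem sympForm_mulVec_self {a : symplecticGroup (Fin m) F} (ha : orderOf a = 2)
    (v : Fin m ⊕ Fin m → F) :
    sympForm m F v (a.1 *ᵥ v) = CfsgLib.Sp.sympBilin m F (nilPart a.1 v) v := by
  rw [mulVec_eq_add, ← CfsgLib.Sp.sympBilin_apply, map_add,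
    CfsgLib.Sp.sympBilin_isAlt.self_eq_zero, zero_add, (isInvol_symp ha).symm]

theorem card_eq_iff_alt {a : symplecticGroup (Fin m) F} (ha : orderOf a = 2) :
    Nat.card {v : Fin m ⊕ Fin m → F // sympForm m F v (a.1 *ᵥ v) = 0} =
        Nat.card (Fin m ⊕ Fin m → F) ↔
      ∀ v, CfsgLib.Sp.sympBilin m F (nilPart a.1 v) v = 0 := by
  classical
  constructor
  · intro h v
    by_contra hv
    refine (Fintype.card_subtype_lt (p := fun w => sympForm m F w (a.1 *ᵥ w) = 0) (x := v)
      (by rwa [sympForm_mulVec_self ha])).ne ?_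
    rwa [Nat.card_eq_fintype_card, Nat.card_eq_fintype_card] at h
  · intro h
    exact Nat.card_congr (Equiv.subtypeUnivEquiv fun v => by rw [sympForm_mulVec_self ha]; exact h v)

theorem symp_isConj_iff (a b : symplecticGroup (Fin m) F) (ha : orderOf a = 2) (hb : orderOf b = 2) :
    IsConj a b ↔ (a.1 - 1).rank = (b.1 - 1).rank ∧ (Even (a.1 - 1).rank →
      Nat.card {v : Fin m ⊕ Fin m → F // sympForm m F v (a.1 *ᵥ v) = 0} =
      Nat.card {v : Fin m ⊕ Fin m → F // sympForm m F v (b.1 *ᵥ v) = 0}) := by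
  constructor
  · intro h
    obtain ⟨g, rfl⟩ := isConj_iff.1 h
    refine ⟨?_, fun _ => Nat.card_congr ?_⟩
    · have hd : ∀ x : symplecticGroup (Fin m) F, IsUnit x.1.det := fun x =>
        SymplecticGroup.symplectic_det x.2
      have hgg : g.1 * (g⁻¹).1 = 1 := congrArg Subtype.val (mul_inv_cancel g)
      rw [show (g * a * g⁻¹).1 - 1 = g.1 * (a.1 - 1) * (g⁻¹).1 by
        simp only [Submonoid.coe_mul, mul_sub, sub_mul, mul_one, hgg],
        rank_mul_eq_left_of_isUnit_det _ _ (hd g⁻¹), rank_mul_eq_right_of_isUnit_det _ _ (hd g)]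
    · refine (CfsgLib.Sp.toEquiv m F g).toEquiv.subtypeEquiv fun v => ?_
      have h1 : (g * a * g⁻¹).1 *ᵥ (g.1 *ᵥ v) = g.1 *ᵥ (a.1 *ᵥ v) := by
        rw [mulVec_mulVec, mulVec_mulVec]
        exact congrArg (fun x : symplecticGroup (Fin m) F => x.1 *ᵥ v) (inv_mul_cancel_right (g * a) g)
      show _ ↔ sympForm m F (g.1 *ᵥ v) ((g * a * g⁻¹).1 *ᵥ (g.1 *ᵥ v)) = 0
      rw [h1, CfsgLib.Sp.sympForm_mulVec]
  · rintro ⟨hr, hc⟩
    have hA : (CfsgLib.Sp.sympBilin m F).IsAlt := CfsgLib.Sp.sympBilin_isAlt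
    have hB := CfsgLib.Sp.sympBilin_separatingLeft (F := F) (m := m)
    have halt : (∀ v, CfsgLib.Sp.sympBilin m F (nilPart a.1 v) v = 0) ↔
        ∀ v, CfsgLib.Sp.sympBilin m F (nilPart b.1 v) v = 0 := by
      rcases Nat.even_or_odd (a.1 - 1).rank with he | ho
      · rw [← card_eq_iff_alt ha, ← card_eq_iff_alt hb, hc he]
      · refine iff_of_false (fun h => ?_) (fun h => ?_)
        · obtain ⟨k, hk, -⟩ := exists_frame_alt hA hB (isInvol_symp ha) h
          exact Nat.not_even_iff_odd.2 ho ⟨k, hk.trans (two_mul k)⟩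
        · obtain ⟨k, hk, -⟩ := exists_frame_alt hA hB (isInvol_symp hb) h
          exact Nat.not_even_iff_odd.2 ho ⟨k, hr.trans (hk.trans (two_mul k))⟩
    obtain ⟨g, hg, hgN⟩ := exists_conj_of_inv isSquare_two hA hB (isInvol_symp ha) (isInvol_symp hb) hr halt
    obtain ⟨G, rfl⟩ := CfsgLib.Sp.exists_toEquiv_eq (g := g) hg
    refine isConj_iff.2 ⟨G, mul_inv_eq_iff_eq_mul.2 (Subtype.ext ?_)⟩
    exact conj_of_intertwine hgN

end CfsgLib.KnownSimple.InvolForms
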