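import Cfsg.Agent.Lib.KnownSimple.InvolForms.Symm
import Cfsg.Agent.Lib.UnitaryEmbed.HermSpace
import Cfsg.Agent.Lib.Forms.Witt

/-!
Conjugacy of involutions of special unitary groups in characteristic two.
-/

set_option autoImplicit false
set_option linter.unusedSectionVars false

namespace CfsgLib.KnownSimple.InvolForms

open Matrix Cfsg CfsgLib.UnitaryEmbed

section Abstract

variable {F V : Type*} [Field F] [CharP F 2] [AddCommGroup V] [Module F V] [FiniteDimensional F V]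
  {σ : F →+* F} {B : V →ₛₗ[σ] V →ₗ[F] F}

theorem exists_frame_herm [Fintype F] {q : ℕ} (hF : Fintype.card F = q ^ 2) (hσq : ∀ x, σ x = x ^ q)
    (hσ : σ ≠ RingHom.id F) (hσ2 : ∀ a, σ (σ a) = a) (hS : ∀ u v, σ (B u v) = B v u)
    (hB : B.SeparatingLeft) {N : V →ₗ[F] V} (hN : IsInvol B N) :
    ∃ c : Fin (Module.finrank F (LinearMap.range N)) → V, IsFrame B N c id := by
  obtain ⟨C, hCdim, hC, hCnd⟩ := exists_compl hN hB
  obtain ⟨e, he⟩ := exists_orthonormal_herm hF σ hσq hσ hσ2 _ (inducedForm B N C)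
    (inducedForm_symm hN hS C) (inducedForm_separatingLeft hCnd) hCdim
  exact exists_frame hN hσ2 hS (c₀ := fun i => (e i : V)) (fun i => rfl)
    (Fintype.card_fin _).symm (fun i j => he i j)
    fun i => CfsgLib.Forms.exists_trace_eq hσ hσ2 _ (hS _ _)

theorem exists_conj_herm (hσ : σ ≠ RingHom.id F) (hσ2 : ∀ a, σ (σ a) = a)
    (hS : ∀ u v, σ (B u v) = B v u) (hB : B.SeparatingLeft) {N N' : V →ₗ[F] V}
    (hN : IsInvol B N) (hN' : IsInvol B N') {ι : Type} [Fintype ι] [DecidableEq ι] {π : ι → ι}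
    {c c' : ι → V} (hc : IsFrame B N c π) (hc' : IsFrame B N' c' π) :
    ∃ g : V ≃ₗ[F] V, (∀ u v, B (g u) (g v) = B u v) ∧ ∀ v, g (N v) = N' (g v) := by
  let e := (Fintype.equivFin (ι ⊕ ι)).symm
  obtain ⟨g, hg, hgx⟩ := CfsgLib.Forms.herm_witt_family B hσ hσ2 hS hB (fun i => pairVec c N (e i))
    (fun i => pairVec c' N' (e i)) ((hc.linearIndependent hN).comp _ e.injective)
    ((hc'.linearIndependent hN').comp _ e.injective)
    (fun i j => by rw [hc.apply_pair hN, hc'.apply_pair hN'])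
  refine ⟨g, hg, fun v => conj_of_map hN hN' hc hc' g hg (fun s => ?_) v⟩
  simpa using hgx (e.symm s)

end Abstract

variable {F : Type*} [Field F] [CharP F 2] {n : ℕ} {σ : F →+* F}

/-- Scaling a hyperbolic plane of a frame by a norm-one scalar. -/
theorem exists_scale {B : (Fin n → F) →ₛₗ[σ] (Fin n → F) →ₗ[F] F} (hS : ∀ u v, σ (B u v) = B v u)
    {N : (Fin n → F) →ₗ[F] (Fin n → F)} (hN : IsInvol B N) {ι : Type} [Fintype ι] [DecidableEq ι]
    {c : ι → Fin n → F} (hc : IsFrame B N c id) (i : ι) {μ : F} (hμ : σ μ * μ = 1) :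
    ∃ M : Matrix (Fin n) (Fin n) F, M.det = μ ^ 2 ∧ (∀ u v, B (M *ᵥ u) (M *ᵥ v) = B u v) ∧
      ∀ v, M *ᵥ N v = N (M *ᵥ v) := by
  have h11 : B (N (c i)) (c i) = 1 := by simpa using hc.gram i i
  have h22 : B (c i) (N (c i)) = 1 := by simpa using hc.gram' hN i i
  let f : (Fin n → F) →ₗ[F] (Fin 2 → F) := LinearMap.pi ![B (N (c i)), B (c i)]
  let h : (Fin 2 → F) →ₗ[F] (Fin n → F) :=
    LinearMap.smulRight (LinearMap.proj 0) (c i) + LinearMap.smulRight (LinearMap.proj 1) (N (c i))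
  have hfh : f ∘ₗ h = LinearMap.id := by
    refine LinearMap.ext fun x => funext fun k => ?_
    fin_cases k <;> simp [f, h, h11, h22, hc.orth, hN.range_range]
  set P : (Fin n → F) →ₗ[F] (Fin n → F) := h ∘ₗ f with hP
  have hPv : ∀ v, P v = B (N (c i)) v • c i + B (c i) v • N (c i) := fun v => by simp [hP, f, h]
  refine ⟨LinearMap.toMatrix' (LinearMap.id + (μ - 1) • P), ?_, fun u v => ?_, fun v => ?_⟩
  · rw [map_add, LinearMap.toMatrix'_id, map_smul, hP, LinearMap.toMatrix'_comp, ← Matrix.smul_mul, Matrix.det_one_add_mul_comm,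
      Matrix.mul_smul, ← LinearMap.toMatrix'_comp, hfh, LinearMap.toMatrix'_id]
    rw [show (1 : Matrix (Fin 2) (Fin 2) F) + (μ - 1) • 1 = μ • 1 by
      rw [sub_smul, one_smul, add_sub_cancel]]
    simp [Matrix.det_smul]
  · rw [LinearMap.toMatrix'_mulVec, LinearMap.toMatrix'_mulVec]
    simp only [LinearMap.add_apply, LinearMap.id_apply, LinearMap.smul_apply,
      hPv, map_add, map_smulₛₗ, LinearMap.add_apply, LinearMap.smul_apply, smul_eq_mul, RingHom.id_apply,
      map_sub, map_one, h11, h22, hc.orth, hN.range_range, smul_add, smul_smul, mul_one, mul_zero,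
      add_zero, zero_add, hS, map_mul]
    linear_combination (B u (N (c i)) * B (c i) v + B u (c i) * B (N (c i)) v) * hμ
  · rw [LinearMap.toMatrix'_mulVec, LinearMap.toMatrix'_mulVec]
    simp only [LinearMap.add_apply, LinearMap.id_apply, LinearMap.smul_apply,
      hPv, map_add, map_smul, smul_add, smul_zero, add_zero, hN.range_range, zero_smul, zero_add,
      hN.sq, ← hN.symm]

variable [Fintype F] {q : ℕ}

theorem su_isConj_iff (hF : Fintype.card F = q ^ 2) (a b : ↥(Cfsg.SU n F q)) (ha : orderOf a = 2)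
    (hb : orderOf b = 2) :
    (IsConj a b ↔ IsConj (a : Matrix.SpecialLinearGroup (Fin n) F) (b : Matrix.SpecialLinearGroup (Fin n) F)) ∧
    (IsConj a b ↔ (((a : Matrix.SpecialLinearGroup (Fin n) F) : Matrix (Fin n) (Fin n) F) - 1).rank =
      (((b : Matrix.SpecialLinearGroup (Fin n) F) : Matrix (Fin n) (Fin n) F) - 1).rank) := by
  obtain ⟨τ, hτ, hτne, hτ2⟩ := exists_conj hF
  let B := hermSesq n τ
  have hS : ∀ u v, τ (B u v) = B v u := hermSesq_symm τ hτ2
  have hB : B.SeparatingLeft := hermSesq_separatingLeft τ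
  have hmem : ∀ x : ↥(Cfsg.SU n F q), ∀ u v,
      B ((x : Matrix.SpecialLinearGroup (Fin n) F).1 *ᵥ u) ((x : Matrix.SpecialLinearGroup (Fin n) F).1 *ᵥ v) = B u v :=
    fun x u v => by rw [hermSesq_apply τ hτ, hermSesq_apply τ hτ]; exact x.2 v u
  have hinv : ∀ x : ↥(Cfsg.SU n F q), orderOf x = 2 →
      IsInvol B (nilPart (x : Matrix.SpecialLinearGroup (Fin n) F).1) := fun x hx => by
    refine isInvol_nilPart (hmem x) ?_
    exact congrArg (fun y : ↥(Cfsg.SU n F q) => (y : Matrix.SpecialLinearGroup (Fin n) F).1)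
      (show x * x = 1 by rw [← pow_two, ← hx, pow_orderOf_eq_one])
  have h12 : IsConj a b → IsConj (a : Matrix.SpecialLinearGroup (Fin n) F) (b : Matrix.SpecialLinearGroup (Fin n) F) :=
    fun h => (Cfsg.SU n F q).subtype.map_isConj h
  have h23 : IsConj (a : Matrix.SpecialLinearGroup (Fin n) F) (b : Matrix.SpecialLinearGroup (Fin n) F) →
      ((a : Matrix.SpecialLinearGroup (Fin n) F).1 - 1).rank =
        ((b : Matrix.SpecialLinearGroup (Fin n) F).1 - 1).rank := fun h => by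
    obtain ⟨g, hg⟩ := isConj_iff.1 h
    have hgg : g.1 * (g⁻¹).1 = 1 := congrArg Subtype.val (mul_inv_cancel g)
    rw [← hg, show (g * (a : Matrix.SpecialLinearGroup (Fin n) F) * g⁻¹).1 - 1 =
        g.1 * ((a : Matrix.SpecialLinearGroup (Fin n) F).1 - 1) * (g⁻¹).1 by
      simp only [Matrix.SpecialLinearGroup.coe_mul, mul_sub, sub_mul, mul_one, hgg]]
    have hdet : ∀ y : Matrix.SpecialLinearGroup (Fin n) F, IsUnit (y : Matrix (Fin n) (Fin n) F).det :=
      fun y => by rw [y.2]; exact isUnit_one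
    rw [rank_mul_eq_left_of_isUnit_det _ _ (hdet g⁻¹), rank_mul_eq_right_of_isUnit_det _ _ (hdet g)]
  suffices h31 : ((a : Matrix.SpecialLinearGroup (Fin n) F).1 - 1).rank =
      ((b : Matrix.SpecialLinearGroup (Fin n) F).1 - 1).rank → IsConj a b from
    ⟨⟨h12, fun h => h31 (h23 h)⟩, ⟨fun h => h23 (h12 h), h31⟩⟩
  intro hr
  have hNa := hinv a ha
  have hNb := hinv b hb
  obtain ⟨c, hc⟩ := exists_frame_herm hF hτ hτne hτ2 hS hB hNa
  obtain ⟨c', hc'⟩ := exists_frame_herm hF hτ hτne hτ2 hS hB hNb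
  have hl : Module.finrank F (LinearMap.range (nilPart (a : Matrix.SpecialLinearGroup (Fin n) F).1)) =
      Module.finrank F (LinearMap.range (nilPart (b : Matrix.SpecialLinearGroup (Fin n) F).1)) := hr
  have hpos : 0 < Module.finrank F (LinearMap.range (nilPart (b : Matrix.SpecialLinearGroup (Fin n) F).1)) := by
    refine Module.finrank_pos_iff.2 (Submodule.nontrivial_iff_ne_bot.2 fun hbot => ?_)
    rw [LinearMap.range_eq_bot] at hbot
    have h1 : b = 1 := Subtype.ext (Matrix.SpecialLinearGroup.ext _ _ fun i j => by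
      refine congrFun (congrFun (Matrix.ext_of_mulVec_single fun k => ?_) i) j
      rw [mulVec_eq_add, hbot]
      ext x
      simp [Matrix.one_apply, Pi.single_apply, Matrix.mulVec_single_one])
    rw [h1, orderOf_one] at hb
    omega
  generalize Module.finrank F (LinearMap.range (nilPart (a : Matrix.SpecialLinearGroup (Fin n) F).1)) = l at c hc hl
  subst hl
  obtain ⟨g, hg, hgN⟩ := exists_conj_herm hτne hτ2 hS hB hNa hNb hc hc'
  set G := LinearMap.toMatrix' g.toLinearMap with hG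
  have hGv : ∀ v, G *ᵥ v = g v := fun v => LinearMap.toMatrix'_mulVec g.toLinearMap v
  have hgh : ∀ u v, Cfsg.hermForm n F q (g u) (g v) = Cfsg.hermForm n F q u v := fun u v => by
    rw [← hermSesq_apply τ hτ, ← hermSesq_apply τ hτ]; exact hg v u
  have hnorm : G.det ^ (q + 1) = 1 := gu_det_norm τ hτ (toGU g hgh)
  obtain ⟨μ, hμ⟩ := FiniteField.isSquare_of_char_two (ringChar.eq_iff.2 inferInstance) G.det⁻¹
  have hGne : G.det ≠ 0 := fun h => by rw [h, zero_pow q.succ_ne_zero] at hnorm; exact zero_ne_one hnorm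
  have hμn : τ μ * μ = 1 := by
    have h1 : (τ μ * μ) ^ 2 = 1 := by
      rw [hτ, ← pow_succ, ← pow_mul, mul_comm, pow_mul, sq μ, ← hμ, inv_pow, hnorm, inv_one]
    exact CharTwo.sq_injective (h1.trans (one_pow 2).symm)
  obtain ⟨M, hMdet, hMB, hMN⟩ := exists_scale hS hNb hc' ⟨0, hpos⟩ hμn
  have hdet : (M * G).det = 1 := by
    rw [Matrix.det_mul, hMdet, sq, ← hμ, inv_mul_cancel₀ hGne]
  let X : ↥(Cfsg.SU n F q) := ⟨⟨M * G, hdet⟩, fun u v => by
    show Cfsg.hermForm n F q ((M * G) *ᵥ u) ((M * G) *ᵥ v) = _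
    rw [← Matrix.mulVec_mulVec, ← Matrix.mulVec_mulVec, hGv, hGv, ← hermSesq_apply τ hτ,
      ← hermSesq_apply τ hτ]
    exact (hMB _ _).trans (hg v u)⟩
  refine isConj_iff.2 ⟨X, mul_inv_eq_iff_eq_mul.2 (Subtype.ext (Subtype.ext ?_))⟩
  exact conj_of_intertwine fun v => by
    rw [← Matrix.mulVec_mulVec, ← Matrix.mulVec_mulVec, hGv, hGv, hgN, hMN]

end CfsgLib.KnownSimple.InvolForms
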